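import Groth.Agent.Cohder.SubcomplexRes
import Groth.Agent.ResProp.EF.K353.Defs

/-!
# A finitely generated subcomplex with the same cohomology up to `S`-torsion (OverZ, step `hM`)

`exists_fg_sub_tor`: `us : C ⥤ Mod R` exact, `R` noetherian, `LocFin us`. A bounded above complex `K` of `C` whose
cohomology modules are finitely generated up to torsion prime to `q` (`FgCoh q`) contains a subcomplex `M` with finitely
generated terms, such that `H^i(us M) ⟶ H^i(us K)` is injective and its cokernel is torsion prime to `q`.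
-/

set_option autoImplicit false

universe w v u

open CategoryTheory CategoryTheory.Limits HomologicalComplex

namespace Groth.Agent.ResProp.EF.K417

open Groth.Agent.ResProp.EF.K294 Groth.Agent.ResProp.EF.K353

variable {R : Type u} [CommRing R] {C : Type v} [Category.{w} C] [Abelian C] (us : C ⥤ ModuleCat.{u} R)

/-- a finitely generated subobject -/
structure FgPiece (Y : C) where
  /-- the object -/
  X : C
  /-- the monomorphism -/
  a : X ⟶ Y
  mono : Mono a
  fg : Module.Finite R (us.obj X)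

attribute [instance] FgPiece.mono

/-- consecutive pieces of the subcomplex -/
def GoodS (S : Set ℕ) (K : CochainComplex C ℤ) (i j : ℤ) (N : FgPiece us (K.X i)) (N' : FgPiece us (K.X j)) : Prop :=
  (∃ l : N.X ⟶ N'.X, N.a ≫ K.d i j = l ≫ N'.a) ∧
  (∀ (x : us.obj (K.X i)) (y : us.obj N'.X), (us.map (K.d i j)).hom x = (us.map N'.a).hom y →
    ∃ z : us.obj N.X, (us.map (K.d i j)).hom ((us.map N.a).hom z) = (us.map (K.d i j)).hom x) ∧
  (∀ x : us.obj (K.X i), (us.map (K.d i j)).hom x = 0 → ∃ n ∈ S, ∃ (z : us.obj N.X) (w : us.obj (K.X (i - 1))),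
    (n : ℤ) • x = (us.map N.a).hom z + (us.map (K.d (i - 1) i)).hom w)

/-- the cohomology in degree `i` is finitely generated up to `S`-torsion -/
def FgS (S : Set ℕ) (K : CochainComplex C ℤ) (i j : ℤ) : Prop :=
  ∃ s : Finset (us.obj (K.X i)), (∀ x ∈ s, (us.map (K.d i j)).hom x = 0) ∧
    ∀ x : us.obj (K.X i), (us.map (K.d i j)).hom x = 0 → ∃ n ∈ S, ∃ c ∈ Submodule.span R (s : Set (us.obj (K.X i))),
      ∃ w : us.obj (K.X (i - 1)), (n : ℤ) • x = c + (us.map (K.d (i - 1) i)).hom w

/-- elements of a pull-back -/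
lemma exists_pullback [PreservesFiniteLimits us] {X Y Z : C} (f : X ⟶ Z) (g : Y ⟶ Z) (x : us.obj X) (y : us.obj Y)
    (h : (us.map f).hom x = (us.map g).hom y) :
    ∃ w : us.obj (pullback f g), (us.map (pullback.fst f g)).hom w = x ∧ (us.map (pullback.snd f g)).hom w = y := by
  have hp := (IsPullback.of_hasPullback f g).map us
  let a : ModuleCat.of R R ⟶ us.obj X := ModuleCat.ofHom (LinearMap.toSpanSingleton R _ x)
  let b : ModuleCat.of R R ⟶ us.obj Y := ModuleCat.ofHom (LinearMap.toSpanSingleton R _ y)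
  have hab : a ≫ us.map f = b ≫ us.map g := by
    apply ModuleCat.hom_ext
    apply LinearMap.ext_ring
    simpa [a, b] using h
  refine ⟨(hp.lift a b hab).hom (1 : R), ?_, ?_⟩
  · have := congrArg (fun t => t.hom (1 : R)) (hp.lift_fst a b hab)
    exact this.trans (one_smul R x)
  · have := congrArg (fun t => t.hom (1 : R)) (hp.lift_snd a b hab)
    exact this.trans (one_smul R y)

/-- the span of finitely many elements which come from `N` comes from `N` -/
lemma exists_of_span {M N : Type u} [AddCommGroup M] [Module R M] [AddCommGroup N] [Module R N] (f : N →ₗ[R] M)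
    (s : Set M) (hs : ∀ x ∈ s, ∃ y, f y = x) (x : M) (hx : x ∈ Submodule.span R s) : ∃ y, f y = x := by
  have : Submodule.span R s ≤ LinearMap.range f := Submodule.span_le.2 fun x hx => hs x hx
  exact this hx

lemma exists_goodS [IsNoetherianRing R] [us.Additive] [PreservesFiniteLimits us] (hF : LocFin us) {S : Set ℕ}
    (K : CochainComplex C ℤ) (i j : ℤ)
    (hK : FgS us S K i j) (N' : FgPiece us (K.X j)) : ∃ N : FgPiece us (K.X i), GoodS us S K i j N N' := by
  classical
  obtain ⟨s, hs, hsp⟩ := hK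
  let W := pullback N'.a (K.d i j)
  let p : W ⟶ N'.X := pullback.fst N'.a (K.d i j)
  let m : W ⟶ K.X i := pullback.snd N'.a (K.d i j)
  have hpm : p ≫ N'.a = m ≫ K.d i j := pullback.condition
  have : Mono m := inferInstance
  -- generators of the image of `W` in `N'`
  have hN' : IsNoetherian R (us.obj N'.X) := by
    have := N'.fg
    exact isNoetherian_of_isNoetherianRing_of_finite R _
  obtain ⟨t, ht⟩ : (LinearMap.range (us.map p).hom).FG := IsNoetherian.noetherian _
  have ht' : ∀ y ∈ t, ∃ w, (us.map p).hom w = y := fun y hy => by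
    have : y ∈ LinearMap.range (us.map p).hom := by
      rw [← ht]
      exact Submodule.subset_span hy
    exact this
  choose! wt hwt using ht'
  have hs' : ∀ x ∈ s, ∃ w : us.obj W, (us.map p).hom w = 0 ∧ (us.map m).hom w = x := fun x hx =>
    exists_pullback us N'.a (K.d i j) 0 x (by rw [map_zero, hs x hx])
  choose! ws hws using hs'
  obtain ⟨N, a, ha, hN, hNa⟩ := hF W (t.image wt ∪ s.image ws)
  have ha1 : ∀ y ∈ t, ∃ z : us.obj N, (us.map a).hom z = wt y := fun y hy =>
    hNa _ (Finset.mem_union_left _ (Finset.mem_image_of_mem _ hy))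
  have ha2 : ∀ y ∈ s, ∃ z : us.obj N, (us.map a).hom z = ws y := fun y hy =>
    hNa _ (Finset.mem_union_right _ (Finset.mem_image_of_mem _ hy))
  refine ⟨⟨N, a ≫ m, mono_comp _ _, hN⟩, ⟨a ≫ p, ?_⟩, ?_, ?_⟩
  · show (a ≫ m) ≫ K.d i j = (a ≫ p) ≫ N'.a
    rw [Category.assoc, Category.assoc, hpm]
  · intro x y hxy
    obtain ⟨w, hw1, hw2⟩ := exists_pullback us N'.a (K.d i j) y x hxy.symm
    have hy : y ∈ Submodule.span R (t : Set (us.obj N'.X)) := by
      rw [ht]
      exact ⟨w, hw1⟩
    obtain ⟨z, hz⟩ := exists_of_span (us.map (a ≫ p)).hom (t : Set (us.obj N'.X)) (fun y' hy' => by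
      obtain ⟨z, hz⟩ := ha1 y' hy'
      refine ⟨z, ?_⟩
      rw [Functor.map_comp, ModuleCat.hom_comp, LinearMap.comp_apply, hz, hwt y' hy']) y hy
    refine ⟨z, ?_⟩
    have h1 : us.map (a ≫ p) ≫ us.map N'.a = us.map (a ≫ m) ≫ us.map (K.d i j) := by
      rw [← Functor.map_comp, ← Functor.map_comp, Category.assoc, Category.assoc, hpm]
    have h2 := congrArg (fun f => f.hom z) h1
    simp only [ModuleCat.hom_comp, LinearMap.comp_apply] at h2
    rw [hxy, ← hz]
    exact h2.symm
  · intro x hx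
    obtain ⟨n, hn, c, hc, w, hw⟩ := hsp x hx
    obtain ⟨z, hz⟩ := exists_of_span (us.map (a ≫ m)).hom (s : Set (us.obj (K.X i))) (fun y' hy' => by
      obtain ⟨z, hz⟩ := ha2 y' hy'
      refine ⟨z, ?_⟩
      rw [Functor.map_comp, ModuleCat.hom_comp, LinearMap.comp_apply, hz, (hws y' hy').2]) c hc
    exact ⟨n, hn, z, w, by rw [hw, ← hz]⟩

/-- the subcomplex, in terms of elements -/
lemma exists_fg_sub_elt [IsNoetherianRing R] [us.Additive] [PreservesFiniteLimits us] (hF : LocFin us) {S : Set ℕ}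
    (h1 : 1 ∈ S) (K : CochainComplex C ℤ) (b : ℤ) [K.IsStrictlyLE b] (hK : ∀ i j : ℤ, i + 1 = j → FgS us S K i j) :
    ∃ (M : CochainComplex C ℤ) (f : M ⟶ K), M.IsStrictlyLE b ∧ (∀ i, Mono (f.f i)) ∧
      (∀ i, Module.Finite R (us.obj (M.X i))) ∧
      (∀ (i j : ℤ), i + 1 = j → ∀ (x : us.obj (K.X i)) (y : us.obj (M.X j)),
        (us.map (K.d i j)).hom x = (us.map (f.f j)).hom y → ∃ z : us.obj (M.X i), (us.map (M.d i j)).hom z = y) ∧
      (∀ (i j : ℤ), i + 1 = j → ∀ x : us.obj (K.X i), (us.map (K.d i j)).hom x = 0 → ∃ n ∈ S,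
        ∃ (z : us.obj (M.X i)) (w : us.obj (K.X (i - 1))), (us.map (M.d i j)).hom z = 0 ∧
          (n : ℤ) • x = (us.map (f.f i)).hom z + (us.map (K.d (i - 1) i)).hom w) := by
  have hz : ∀ i : ℤ, b + 1 ≤ i → ∀ x : us.obj (K.X i), x = 0 := fun i hi x => by
    have h2 : IsZero (us.obj (K.X i)) := us.map_isZero (K.isZero_of_isStrictlyLE b i (by lia))
    have := ModuleCat.subsingleton_of_isZero h2
    exact Subsingleton.elim _ _
  obtain ⟨P, hP⟩ := Groth.Agent.Cohder.SubcomplexRes.exists_descending_family (T := fun i ↦ FgPiece us (K.X i))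
    (fun i j _ ↦ GoodS us S K i j) (b + 1)
    (fun i hi ↦ ⟨K.X i, 𝟙 _, inferInstance, by
      have : Subsingleton (us.obj (K.X i)) := ⟨fun x y => by rw [hz i hi x, hz i hi y]⟩
      infer_instance⟩)
    (fun i j h hi s t ↦ by
      have h2 := K.isZero_of_isStrictlyLE b j (by lia)
      refine ⟨⟨0, h2.eq_of_tgt _ _⟩, fun x y _ => ⟨0, ?_⟩, fun x _ => ⟨1, h1, 0, 0, ?_⟩⟩
      · exact (hz j (by lia) _).trans (hz j (by lia) _).symm
      · exact (hz i hi _).trans (hz i hi _).symm)
    (fun i j h t ↦ exists_goodS us hF K i j (hK i j h) t)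
  have hd : ∀ i j : ℤ, ∃ l : (P i).X ⟶ (P j).X, (P i).a ≫ K.d i j = l ≫ (P j).a := by
    intro i j
    by_cases hij : i + 1 = j
    · exact (hP i j hij).1
    · exact ⟨0, by rw [K.shape _ _ hij, comp_zero, zero_comp]⟩
  choose d hd using hd
  let M : CochainComplex C ℤ :=
    { X i := (P i).X
      d i j := d i j
      shape i j hij := by
        rw [← cancel_mono (P j).a, ← hd, K.shape _ _ hij, comp_zero, zero_comp]
      d_comp_d' i j k _ _ := by
        rw [← cancel_mono (P k).a, Category.assoc, ← hd, ← Category.assoc, ← hd, Category.assoc,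
          K.d_comp_d, comp_zero, zero_comp] }
  let f : M ⟶ K := { f i := (P i).a, comm' i j _ := hd i j }
  have hm : ∀ i, Mono (f.f i) := fun i ↦ (P i).mono
  have hinj : ∀ i, Function.Injective (us.map (f.f i)).hom := fun i =>
    (ModuleCat.mono_iff_injective _).1 inferInstance
  have hcomm : ∀ (i j : ℤ) (z : us.obj (M.X i)),
      (us.map (f.f j)).hom ((us.map (M.d i j)).hom z) = (us.map (K.d i j)).hom ((us.map (f.f i)).hom z) := by
    intro i j z
    have h2 : us.map (f.f i) ≫ us.map (K.d i j) = us.map (M.d i j) ≫ us.map (f.f j) := by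
      rw [← Functor.map_comp, ← Functor.map_comp, f.comm]
    have h3 := congrArg (fun g => g.hom z) h2
    simp only [ModuleCat.hom_comp, LinearMap.comp_apply] at h3
    exact h3.symm
  refine ⟨M, f, ?_, hm, fun i => (P i).fg, ?_, ?_⟩
  · rw [CochainComplex.isStrictlyLE_iff]
    intro i hi
    exact IsZero.of_mono (f.f i) (K.isZero_of_isStrictlyLE b i hi)
  · intro i j hij x y hxy
    obtain ⟨z, hz⟩ := (hP i j hij).2.1 x y hxy
    refine ⟨z, hinj j ?_⟩
    rw [hcomm]
    exact hz.trans hxy
  · intro i j hij x hx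
    obtain ⟨n, hn, z, w, hw⟩ := (hP i j hij).2.2 x hx
    refine ⟨n, hn, z, w, hinj j ?_, hw⟩
    rw [hcomm, map_zero]
    have h2 := congrArg (us.map (K.d i j)).hom hw
    rw [map_add, map_zsmul, hx, smul_zero] at h2
    have h3 : (us.map (K.d i j)).hom ((us.map (K.d (i - 1) i)).hom w) = 0 := by
      have h4 : us.map (K.d (i - 1) i) ≫ us.map (K.d i j) = 0 := by
        rw [← Functor.map_comp, K.d_comp_d, Functor.map_zero]
      have h5 := congrArg (fun g => g.hom w) h4
      simpa using h5
    rw [h3, add_zero] at h2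
    exact h2.symm

end Groth.Agent.ResProp.EF.K417
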