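import Mathlib.RingTheory.Spectrum.Prime.FreeLocus
import Mathlib.RingTheory.Flat.Localization
import Mathlib.RingTheory.Noetherian.Basic

/-!
# Flatness and vanishing of a finitely generated module spread out from `S⁻¹A` to `A_s`
-/

set_option autoImplicit false

universe u

open TensorProduct

namespace Groth.Agent.ResProp.EF.K417

variable {A : Type u} [CommRing A] (S : Submonoid A) (M : Type u) [AddCommGroup M] [Module A M]

lemma flat_tensor_iff : Module.Flat A (Localization S ⊗[A] M) ↔ Module.Flat (Localization S) (LocalizedModule S M) := by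
  rw [← Module.flat_iff_of_isLocalization (Localization S) S (Localization S ⊗[A] M)]
  exact ⟨fun _ => Module.Flat.of_linearEquiv (LocalizedModule.equivTensorProduct S M),
    fun _ => Module.Flat.of_linearEquiv (LocalizedModule.equivTensorProduct S M).symm⟩

/-- flatness of a finitely generated module over a noetherian ring spreads out. -/
theorem exists_flat [IsNoetherianRing A] [Module.Finite A M] (h : Module.Flat A (Localization S ⊗[A] M)) :
    ∃ s ∈ S, ∀ t : A, s ∣ t → Module.Flat A (Localization.Away t ⊗[A] M) := by
  have h2 : Module.Flat (Localization S) (LocalizedModule S M) := (flat_tensor_iff S M).1 h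
  have hfp : Module.FinitePresentation A M := Module.finitePresentation_of_finite A M
  have h3 : Module.freeLocus (Localization S) (LocalizedModule S M) = Set.univ := Module.freeLocus_eq_univ
  rw [Module.freeLocus_localization, Set.preimage_eq_univ_iff, PrimeSpectrum.localization_comap_range _ S] at h3
  obtain ⟨I, hI⟩ := (PrimeSpectrum.isClosed_iff_zeroLocus_ideal _).1
    (Module.isOpen_freeLocus (R := A) (M := M)).isClosed_compl
  have h4 : ¬ Disjoint (I : Set A) (S : Set A) := by
    intro hd
    obtain ⟨p, hp, hIp, hpS⟩ := Ideal.exists_le_prime_disjoint I S hd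
    have h5 : (⟨p, hp⟩ : PrimeSpectrum A) ∈ PrimeSpectrum.zeroLocus (I : Set A) := hIp
    rw [← hI] at h5
    exact h5 (h3 (show Disjoint (S : Set A) (p : Set A) from hpS.symm))
  obtain ⟨s, hsI, hsS⟩ := Set.not_disjoint_iff.1 h4
  refine ⟨s, hsS, fun t ht => ?_⟩
  have h6 : (PrimeSpectrum.basicOpen t : Set (PrimeSpectrum A)) ⊆ Module.freeLocus A M := by
    intro p hp
    by_contra hc
    have h7 : p ∈ PrimeSpectrum.zeroLocus (I : Set A) := hI ▸ hc
    have h8 : s ∈ p.asIdeal := h7 hsI
    exact hp (p.asIdeal.mem_of_dvd ht h8)
  have h9 : Module.Projective (Localization.Away t) (LocalizedModule.Away t M) :=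
    Module.basicOpen_subset_freeLocus_iff.1 h6
  exact (flat_tensor_iff (Submonoid.powers t) M).2 inferInstance

/-- vanishing of a finitely generated module spreads out. -/
theorem exists_zero [Module.Finite A M] (h : Subsingleton (Localization S ⊗[A] M)) :
    ∃ s ∈ S, ∀ t : A, s ∣ t → Subsingleton (Localization.Away t ⊗[A] M) := by
  have h1 : Subsingleton (LocalizedModule S M) :=
    (LocalizedModule.equivTensorProduct S M).toEquiv.subsingleton
  obtain ⟨n, g, hg⟩ := Module.Finite.exists_fin (R := A) (M := M)
  have h2 : ∀ i, ∃ s ∈ S, s • g i = 0 := by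
    intro i
    have := (LocalizedModule.mk_eq (S := S) (m := g i) (m' := 0) (s := 1) (s' := 1)).1 (Subsingleton.elim _ _)
    obtain ⟨u, hu⟩ := this
    exact ⟨u, u.2, by simpa [Submonoid.smul_def] using hu⟩
  choose s hs hsg using h2
  refine ⟨∏ i, s i, S.prod_mem fun i _ => hs i, fun t ht => ?_⟩
  have h3 : ∀ m : M, t • m = 0 := by
    intro m
    have : m ∈ Submodule.span A (Set.range g) := hg ▸ Submodule.mem_top
    induction this using Submodule.span_induction with
    | mem x hx =>
      obtain ⟨i, rfl⟩ := hx
      obtain ⟨c, hc⟩ := (Finset.dvd_prod_of_mem s (Finset.mem_univ i)).trans ht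
      rw [hc, mul_comm, mul_smul, hsg, smul_zero]
    | zero => simp
    | add x y _ _ hx hy => rw [smul_add, hx, hy, add_zero]
    | smul a x _ hx => rw [smul_comm, hx, smul_zero]
  have h4 : Subsingleton (LocalizedModule.Away t M) := by
    refine ⟨fun x y => ?_⟩
    have hz : ∀ x : LocalizedModule.Away t M, x = 0 := by
      intro x
      induction x using LocalizedModule.induction_on with
      | h m s =>
        rw [← LocalizedModule.zero_mk (1 : Submonoid.powers t)]
        refine LocalizedModule.mk_eq.2 ⟨⟨t, Submonoid.mem_powers t⟩, ?_⟩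
        simp only [Submonoid.smul_def, smul_zero, one_smul]
        rw [h3]
    rw [hz x, hz y]
  exact (LocalizedModule.equivTensorProduct (Submonoid.powers t) M).symm.toEquiv.subsingleton

end Groth.Agent.ResProp.EF.K417
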