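import Groth.Agent.ResProp.EF.K417.HMa
import Groth.Agent.ResProp.EF.K353.Coh
import Groth.Agent.ResProp.EF.K894.HL
import Groth.Agent.ResProp.EF.K573.PerfExt

/-!
# OverZ, step `hM`: a finitely generated complex over `Y`, of Tor-amplitude `≥ b` over `ℤ[1/n]`
-/

set_option autoImplicit false
set_option backward.defeqAttrib.useBackward true
set_option backward.isDefEq.respectTransparency false

universe w v u v' w'

open CategoryTheory CategoryTheory.Limits CategoryTheory.Pretriangulated HomologicalComplex MonoidalCategory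

namespace Groth.Agent.ResProp.EF.K417

open Groth.Agent.ResProp.EF.K294 Groth.Agent.ResProp.EF.K353 Groth.Agent.PerfB.RingKFlat

section abs

variable {T : Type v} [Category.{w} T] [Preadditive T] [HasZeroObject T] [HasShift T ℤ]
  [∀ n : ℤ, (shiftFunctor T n).Additive] [Pretriangulated T] (F : CohF.{w, v, u} T)
  {A B C : T} {f : A ⟶ B} {g : B ⟶ C} {h : C ⟶ A⟦(1 : ℤ)⟧} (H : Dist f g h) {S : Set ℕ}

include H

lemma ker_tor (hC : ∀ i, F.Tor S i C) (i : ℤ) (x : F.M i A) (hx : F.map i f x = 0) : ∃ n ∈ S, (n : ℕ) • x = 0 := by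
  obtain ⟨y, rfl⟩ := F.ex1 H (i - 1) i (by omega) x hx
  obtain ⟨n, hn, h0⟩ := hC _ y
  exact ⟨n, hn, by rw [← map_nsmul, h0, map_zero]⟩

lemma coker_tor (hC : ∀ i, F.Tor S i C) (i : ℤ) (y : F.M i B) : ∃ n ∈ S, ∃ x, F.map i f x = (n : ℕ) • y := by
  obtain ⟨n, hn, h0⟩ := hC _ (F.map i g y)
  rw [← map_nsmul] at h0
  obtain ⟨x, hx⟩ := F.ex2 H i _ h0
  exact ⟨n, hn, x, hx⟩

end abs

section

variable {C : Type v} [Category.{w} C] [Abelian C]

lemma dist_cone {K L : CochainComplex C ℤ} (f : K ⟶ L) :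
    ∃ e, Dist ((qq C).map f) ((qq C).map (CochainComplex.mappingCone.inr f)) e :=
  ⟨_, HomotopyCategory.mappingCone_triangleh_distinguished f⟩

lemma dist_cocone {K L : CochainComplex C ℤ} (f : K ⟶ L) :
    ∃ e, Dist ((qq C).map (CochainComplex.mappingCocone.fst f)) ((qq C).map f) e := by
  have h : (qq C).mapTriangle.obj (CochainComplex.mappingCocone.triangle f) ∈ distTriang _ := by
    rw [rotate_distinguished_triangle]
    exact isomorphic_distinguished _ (HomotopyCategory.mappingCone_triangleh_distinguished f) _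
      (((qq C).mapTriangleRotateIso.app _ ≪≫ (qq C).mapTriangle.mapIso (CochainComplex.mappingCocone.rotateTriangleIso f)))
  exact ⟨_, h⟩

/-- honest homotopy fibre product -/
lemma exists_pbh {Y Y' T₀ : CochainComplex C ℤ} (ℓ : Y ⟶ Y') (f : T₀ ⟶ Y') :
    ∃ (W : CochainComplex C ℤ) (α : W ⟶ Y) (β : W ⟶ T₀) (e' : (qq C).obj (CochainComplex.mappingCone ℓ) ⟶
      ((qq C).obj W)⟦(1 : ℤ)⟧), (Bdd Y → Bdd Y' → Bdd T₀ → Bdd W) ∧
      Dist ((qq C).map β) ((qq C).map (f ≫ CochainComplex.mappingCone.inr ℓ)) e' ∧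
      ∀ (F : CohF.{w, max v w, u} (KK C)) (i : ℤ) (a : F.M i ((qq C).obj Y)) (b : F.M i ((qq C).obj T₀)),
        F.map i ((qq C).map ℓ) a = F.map i ((qq C).map f) b →
        ∃ w : F.M i ((qq C).obj W), F.map i ((qq C).map α) w = a ∧ F.map i ((qq C).map β) w = b := by
  obtain ⟨e, h1⟩ := dist_cone ℓ
  let g : T₀ ⟶ CochainComplex.mappingCone ℓ := f ≫ CochainComplex.mappingCone.inr ℓ
  obtain ⟨e', h2⟩ := dist_cocone g
  let W : CochainComplex C ℤ := CochainComplex.mappingCocone g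
  let β : W ⟶ T₀ := CochainComplex.mappingCocone.fst g
  obtain ⟨α', h3, h4⟩ : ∃ α : (qq C).obj W ⟶ (qq C).obj Y, (qq C).map β ≫ (qq C).map f = α ≫ (qq C).map ℓ ∧
      e' ≫ α⟦1⟧' = 𝟙 _ ≫ e :=
    complete_distinguished_triangle_morphism₁ _ _ h2 h1 ((qq C).map f) (𝟙 _) (by
      rw [Triangle.mk_mor₂, Triangle.mk_mor₂, ← (qq C).map_comp]
      exact Category.comp_id _)
  obtain ⟨α, rfl⟩ := (qq C).map_surjective α'
  refine ⟨W, α, β, e', ?_, h2, fun F i a b hab => ?_⟩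
  · intro hY hY' hT
    exact K573.Bdd.shift (K573.Bdd.mappingCone g hT (K573.Bdd.mappingCone ℓ hY hY')) (-1)
  have hb : F.map i ((qq C).map g) b = 0 := by
    rw [(qq C).map_comp, F.map_comp, ← hab]
    exact F.d12 h1 i a
  obtain ⟨w₀, hw₀⟩ := F.ex2 h2 i b hb
  have h5 : F.map i ((qq C).map ℓ) (a - F.map i ((qq C).map α) w₀) = 0 := by
    rw [map_sub, ← F.map_comp, ← h3, F.map_comp, hw₀, hab, sub_self]
  obtain ⟨y, hy⟩ := F.ex1 h1 (i - 1) i (by omega) _ h5
  have h6 := F.nat h2 h1 ((qq C).map α) ((qq C).map f) (𝟙 _) h3 (by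
      rw [← (qq C).map_comp]
      exact Category.comp_id _) h4 (i - 1) i (by omega) y
  rw [F.map_id] at h6
  refine ⟨w₀ + F.δ h2 (i - 1) i (by omega) y, ?_, ?_⟩
  · rw [map_add, ← h6, hy, add_sub_cancel]
  · rw [map_add, F.d31, add_zero, hw₀]

end

section

variable {R : Type u} [CommRing R] {C : Type v} [Category.{w} C] [Abelian C] (us : C ⥤ ModuleCat.{u} R) [us.Additive]

/-- kernel and cokernel of `G f` are torsion prime to `q` -/
def LocAt (q : ℕ) {D : Type v'} [Category.{w} D] (G : D ⥤ ModuleCat.{u} R) {Y Y' : D} (f : Y ⟶ Y') : Prop :=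
  (∀ x : G.obj Y, (G.map f).hom x = 0 → ∃ n : ℕ, n.Coprime q ∧ (n : ℤ) • x = 0) ∧
  (∀ y : G.obj Y', ∃ n : ℕ, n.Coprime q ∧ ∃ x, (G.map f).hom x = (n : ℤ) • y)

lemma LocAt.of_iso {q : ℕ} {D : Type v'} [Category.{w} D] {G G' : D ⥤ ModuleCat.{u} R} (e : G ≅ G') {Y Y' : D}
    {f : Y ⟶ Y'} (h : LocAt q G f) : LocAt q G' f := by
  have h1 : ∀ x : G.obj Y, (G'.map f).hom ((e.hom.app Y).hom x) = (e.hom.app Y').hom ((G.map f).hom x) := fun x => by
    have := congrArg (fun k => k.hom x) (e.hom.naturality f)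
    exact this.symm
  have h2 : ∀ (Z : D) (x : G'.obj Z), (e.hom.app Z).hom ((e.inv.app Z).hom x) = x := fun Z x => by
    have := congrArg (fun k => k.hom x) (e.inv_hom_id_app Z)
    exact this
  have h3 : ∀ (Z : D) (x : G.obj Z), (e.inv.app Z).hom ((e.hom.app Z).hom x) = x := fun Z x => by
    have := congrArg (fun k => k.hom x) (e.hom_inv_id_app Z)
    exact this
  constructor
  · intro x hx
    obtain ⟨n, hn, h0⟩ := h.1 ((e.inv.app Y).hom x) (by
      have h4 := h1 ((e.inv.app Y).hom x)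
      rw [h2, hx] at h4
      rw [← h3 Y' ((G.map f).hom _), ← h4, map_zero])
    refine ⟨n, hn, ?_⟩
    rw [← h2 Y x, ← map_zsmul, h0, map_zero]
  · intro y
    obtain ⟨n, hn, x, hx⟩ := h.2 ((e.inv.app Y').hom y)
    exact ⟨n, hn, (e.hom.app Y).hom x, by rw [h1, hx, map_zsmul, h2]⟩

/-- `ℓ : Y ⟶ Y'` is a localization away from the numbers prime to `q`, on all `H^i(us(-) ⊗ l)` -/
def IsLocQ (q : ℕ) {Y Y' : CochainComplex C ℤ} (ℓ : Y ⟶ Y') : Prop := ∀ l : CM R, IsTest l → ∀ i : ℤ,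
  LocAt q (hh us l i) ℓ

variable {us}

lemma tor_of_locAt {q : ℕ} {Y Y' : CochainComplex C ℤ} {ℓ : Y ⟶ Y'} (l : CM R) (h : ∀ i, LocAt q (hh us l i) ℓ)
    (i : ℤ) : (FH us l).Tor (cop q) i ((qq C).obj (CochainComplex.mappingCone ℓ)) := by
  obtain ⟨e, h1⟩ := dist_cone ℓ
  refine CohF.tor₃ (F := FH us l) h1 (fun m hm n hn => (cop q).mul_mem hm hn) (j := i + 1) rfl ?_ ?_
  · intro x hx
    obtain ⟨x, rfl⟩ := (tF us l (i + 1) Y).surjective x
    rw [tF_map, EmbeddingLike.map_eq_zero_iff] at hx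
    obtain ⟨n, hn, h0⟩ := (h (i + 1)).1 x hx
    exact ⟨n, hn, by rw [← map_nsmul, ← natCast_zsmul, h0, map_zero]⟩
  · intro y
    obtain ⟨y, rfl⟩ := (tF us l i Y').surjective y
    obtain ⟨n, hn, x, h0⟩ := (h i).2 y
    exact ⟨n, hn, tF us l i Y x, by rw [tF_map, h0, natCast_zsmul, map_nsmul]⟩

/-- the converse: kernel and cokernel are torsion if the cone is -/
lemma locAt_of_tor {q : ℕ} {Y Y' : CochainComplex C ℤ} (β : Y ⟶ Y') {E : KK C} {g : (qq C).obj Y' ⟶ E}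
    {e : E ⟶ ((qq C).obj Y)⟦(1 : ℤ)⟧} (H : Dist ((qq C).map β) g e) (l : CM R)
    (h : ∀ i, (FH us l).Tor (cop q) i E) (i : ℤ) : LocAt q (hh us l i) β := by
  constructor
  · intro x hx
    obtain ⟨n, hn, h0⟩ := ker_tor (FH us l) H h i (tF us l i Y x) (by rw [tF_map, hx, map_zero])
    rw [← map_nsmul, EmbeddingLike.map_eq_zero_iff] at h0
    exact ⟨n, hn, by rw [natCast_zsmul]; exact h0⟩
  · intro y
    obtain ⟨n, hn, x, h0⟩ := coker_tor (FH us l) H h i (tF us l i Y' y)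
    obtain ⟨x, rfl⟩ := (tF us l i Y).surjective x
    rw [tF_map, ← map_nsmul] at h0
    exact ⟨n, hn, x, by rw [natCast_zsmul]; exact (tF us l i Y').injective h0⟩

section unit

/-- the test complex `R[0]` -/
noncomputable abbrev l₀ (R : Type u) [CommRing R] : CM R :=
  (single (ModuleCat.{u} R) (ComplexShape.up ℤ) 0).obj (𝟙_ (ModuleCat.{u} R))

lemma isTest_l₀ : IsTest (l₀ R) where
  le := inferInstance
  flat n := by
    have h0 : Module.Flat R (𝟙_ (ModuleCat.{u} R)) := inferInstanceAs (Module.Flat R R)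
    by_cases hn : n = 0
    · subst hn
      exact Module.Flat.of_linearEquiv
        (singleObjXSelf (ComplexShape.up ℤ) 0 (𝟙_ (ModuleCat.{u} R))).toLinearEquiv
    · have : Subsingleton (((single (ModuleCat.{u} R) (ComplexShape.up ℤ) 0).obj (𝟙_ (ModuleCat.{u} R))).X n) :=
        ModuleCat.subsingleton_of_isZero (isZero_single_obj_X _ _ _ _ hn)
      infer_instance
  exact i hi := ExactAt.of_isZero (isZero_single_obj_X _ _ _ _ (by omega))

variable (us) in
/-- `H^i(us Y ⊗ R[0]) = H^i(us Y)` -/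
noncomputable def hhUnit (i : ℤ) : hh us (l₀ R) i ≅ vC us ⋙ homologyFunctor _ _ i :=
  Functor.isoWhiskerLeft (vC us) (Functor.isoWhiskerRight (K894.HL.unitIso R) (homologyFunctor _ _ i) ≪≫
    Functor.leftUnitor _)

/-- from `H^i(us ℓ)` to `H^i(us ℓ ⊗ l)` -/
lemma isLocQ_of_homology {q : ℕ} {Y Y' : CochainComplex C ℤ} {ℓ : Y ⟶ Y'}
    (h : ∀ i, LocAt q (vC us ⋙ homologyFunctor _ _ i) ℓ) : IsLocQ us q ℓ := by
  obtain ⟨e, h1⟩ := dist_cone ℓ
  have h2 : ∀ i, LocAt q (hh us (l₀ R) i) ℓ := fun i => (h i).of_iso (hhUnit us i).symm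
  have h3 := tor_of_locAt (l₀ R) h2
  have h4 : ∀ (i : ℤ) (x : ((vC us).obj (CochainComplex.mappingCone ℓ)).homology i), ∃ n ∈ cop q, (n : ℤ) • x = 0 := by
    intro i x
    obtain ⟨n, hn, h0⟩ := h3 i (tF us (l₀ R) i _ (((hhUnit us i).inv.app (CochainComplex.mappingCone ℓ)).hom x))
    rw [← map_nsmul, EmbeddingLike.map_eq_zero_iff] at h0
    refine ⟨n, hn, ?_⟩
    have h5 := congrArg ((hhUnit us i).hom.app (CochainComplex.mappingCone ℓ)).hom h0
    rw [map_nsmul, map_zero] at h5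
    have h6 : ((hhUnit us i).hom.app (CochainComplex.mappingCone ℓ)).hom
        (((hhUnit us i).inv.app (CochainComplex.mappingCone ℓ)).hom x) = x := by
      have := congrArg (fun k => k.hom x) ((hhUnit us i).inv_hom_id_app (CochainComplex.mappingCone ℓ))
      exact this
    rw [h6] at h5
    rw [natCast_zsmul]
    exact h5
  intro l hl
  refine locAt_of_tor ℓ h1 l fun i => ?_
  intro x
  obtain ⟨x, rfl⟩ := (tF us l i _).surjective x
  obtain ⟨n, hn, h0⟩ := tor_tens (cop q) _ h4 l hl i x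
  refine ⟨n, hn, ?_⟩
  rw [← map_nsmul]
  have h7 : n • x = 0 := by rw [← natCast_zsmul]; exact h0
  rw [h7, map_zero]

end unit

end

end Groth.Agent.ResProp.EF.K417
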