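import Groth.Agent.ResProp.EF.K417.HM
import Groth.Agent.ResProp.EF.K353.OverZp

/-!
# OverZ, step `hM` and `StmtOverZ0`
-/

set_option autoImplicit false
set_option backward.defeqAttrib.useBackward true
set_option backward.isDefEq.respectTransparency false

universe w v u

open CategoryTheory CategoryTheory.Limits CategoryTheory.Pretriangulated HomologicalComplex MonoidalCategory

namespace Groth.Agent.ResProp.EF.K417

open Groth.Agent.ResProp.EF.K294 Groth.Agent.ResProp.EF.K353 Groth.Agent.PerfB.RingKFlat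

variable {R : Type u} [CommRing R] {C : Type v} [Category.{w} C] [Abelian C] (us : C ⥤ ModuleCat.{u} R) [us.Additive]

/-- the finitely generated subcomplex, on cohomology -/
lemma exists_fg_sub_loc [IsNoetherianRing R] [PreservesFiniteLimits us] (hF : LocFin us) {q : ℕ}
    (K : CochainComplex C ℤ) (hb : Bdd K) (hK : FgCoh q ((vC us).obj K)) :
    ∃ (M : CochainComplex C ℤ) (f : M ⟶ K), Bdd M ∧ (∀ i, Module.Finite R (us.obj (M.X i))) ∧ IsLocQ us q f := by
  obtain ⟨a, b, ha, hb⟩ := hb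
  obtain ⟨M, f, hM, hm, hfg, h1, h2⟩ := exists_fg_sub_elt us hF (S := cop q) (cop q).one_mem K b
    (fun i j hij => fgS_of_fgCoh us K hK i j hij)
  have hinj : ∀ i, Function.Injective (us.map (f.f i)).hom := fun i => by
    have := hm i
    exact (ModuleCat.mono_iff_injective _).1 inferInstance
  refine ⟨M, f, ⟨a, b, ?_, hM⟩, hfg, isLocQ_of_homology fun i => ⟨?_, ?_⟩⟩
  · rw [CochainComplex.isStrictlyGE_iff]
    intro i hi
    have := hm i
    exact IsZero.of_mono (f.f i) ((CochainComplex.isStrictlyGE_iff K a).1 ha i hi)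
  · intro x hx
    refine ⟨1, Nat.coprime_one_left q, ?_⟩
    rw [Nat.cast_one, one_zsmul]
    obtain ⟨z, rfl⟩ := exists_cyc ((vC us).obj M) i x
    have h3 : (((vC us).obj K).homologyπ i).hom ((cyclesMap ((vC us).map f) i).hom z) = 0 := by
      have := congrArg (fun k => k.hom z) (homologyπ_naturality ((vC us).map f) i)
      exact this.symm.trans hx
    obtain ⟨w, hw⟩ := exists_toCyc ((vC us).obj K) i _ h3
    have h4 : (us.map (K.d (i - 1) i)).hom w = (us.map (f.f i)).hom ((((vC us).obj M).iCycles i).hom z) := by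
      have h5 := congrArg (fun k => k.hom w) (((vC us).obj K).toCycles_i (i - 1) i)
      have h6 := congrArg (fun k => k.hom z) (cyclesMap_i ((vC us).map f) i)
      have h7 : (((vC us).obj K).iCycles i).hom ((((vC us).obj K).toCycles (i - 1) i).hom w) =
        (us.map (K.d (i - 1) i)).hom w := h5
      rw [← h7, hw]
      exact h6
    obtain ⟨z', hz'⟩ := h1 (i - 1) i (by omega) w _ h4
    have h8 : (((vC us).obj M).toCycles (i - 1) i).hom z' = z := by
      have h9 : Function.Injective (((vC us).obj M).iCycles i).hom := (ModuleCat.mono_iff_injective _).1 inferInstance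
      refine h9 ?_
      have h5 := congrArg (fun k => k.hom z') (((vC us).obj M).toCycles_i (i - 1) i)
      exact h5.trans hz'
    rw [← h8]
    have h10 := congrArg (fun k => k.hom z') (((vC us).obj M).toCycles_comp_homologyπ (i - 1) i)
    exact h10
  · intro y
    obtain ⟨z, rfl⟩ := exists_cyc ((vC us).obj K) i y
    obtain ⟨n, hn, z', w, hz', hw⟩ := h2 i (i + 1) rfl ((((vC us).obj K).iCycles i).hom z) (d_iCyc _ i (i + 1) z)
    obtain ⟨c, rfl⟩ := exists_iCyc ((vC us).obj M) rfl z' hz'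
    refine ⟨n, hn, (((vC us).obj M).homologyπ i).hom c, ?_⟩
    have h3 : (n : ℤ) • z = (cyclesMap ((vC us).map f) i).hom c + (((vC us).obj K).toCycles (i - 1) i).hom w := by
      have h9 : Function.Injective (((vC us).obj K).iCycles i).hom := (ModuleCat.mono_iff_injective _).1 inferInstance
      refine h9 ?_
      rw [map_zsmul, map_add]
      have h5 := congrArg (fun k => k.hom w) (((vC us).obj K).toCycles_i (i - 1) i)
      have h6 := congrArg (fun k => k.hom c) (cyclesMap_i ((vC us).map f) i)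
      refine hw.trans ?_
      exact congrArg₂ (· + ·) h6.symm h5.symm
    have h4 := congrArg (((vC us).obj K).homologyπ i).hom h3
    rw [map_zsmul, map_add] at h4
    have h5 := congrArg (fun k => k.hom w) (((vC us).obj K).toCycles_comp_homologyπ (i - 1) i)
    have h6 : (((vC us).obj K).homologyπ i).hom ((((vC us).obj K).toCycles (i - 1) i).hom w) = 0 := h5
    rw [h6, add_zero] at h4
    rw [h4]
    have h7 := congrArg (fun k => k.hom c) (homologyπ_naturality ((vC us).map f) i)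
    exact h7

/-- **`hM`, honest form** -/
theorem exists_hM [IsNoetherianRing R] [PreservesFiniteLimits us] (hF : LocFin us) {L : CM R} (hL : IsTest L)
    (h0 : Char0 L) {j : ℤ} {p : ℕ} (hp : p.Prime) (h : HqFg us L j p)
    {Y Y' : CochainComplex C ℤ} (ℓ : Y ⟶ Y') (hY : Bdd Y) (hY' : Bdd Y') (hq : QLoc p Y') (hℓ : IsLocQ us p ℓ)
    (y : (hh us L j).obj Y) :
    ∃ (M : CochainComplex C ℤ) (f : M ⟶ Y) (m : (hh us L j).obj M) (n : ℕ) (b : ℤ), Bdd M ∧
      (∀ i, Module.Finite R (us.obj (M.X i))) ∧ ((hh us L j).map f).hom m = y ∧ n ≠ 0 ∧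
      ∀ l : CM R, IsTest l → ∀ i < b, ∀ x : (tens ((vC us).obj M) l).homology i, ∃ k : ℕ, ((n : ℤ) ^ k) • x = 0 := by
  obtain ⟨T₀, f₀, t, a, hT, hTa, ⟨-, hTfg⟩, ht⟩ := h Y' hY' hq (((hh us L j).map ℓ).hom y)
  obtain ⟨W, α, β, e', hW, hD, hpb⟩ := exists_pbh ℓ f₀
  have hW := hW hY hY' hT
  -- `β` is an isomorphism up to torsion
  have hβ : IsLocQ us p β := fun l hl i =>
    locAt_of_tor β hD l (fun i => tor_of_locAt l (hℓ l hl) i) i
  have hβ0 : ∀ i, LocAt p (vC us ⋙ homologyFunctor _ _ i) β := fun i =>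
    (hβ (l₀ R) isTest_l₀ i).of_iso (hhUnit us i)
  have hWfg : FgCoh p ((vC us).obj W) := fgCoh_of_iso_mod ((vC us).map β) (fun i x hx => (hβ0 i).1 x hx)
    (fun i y => (hβ0 i).2 y) hTfg
  obtain ⟨M, g, hM, hMfg, hg⟩ := exists_fg_sub_loc us hF W hW hWfg
  -- the class
  obtain ⟨w, hw1, -⟩ := hpb (FH us L) j (tF us L j Y y) (tF us L j T₀ t) (by rw [tF_map, tF_map, ht])
  obtain ⟨w, rfl⟩ := (tF us L j W).surjective w
  rw [tF_map] at hw1
  have hw : ((hh us L j).map α).hom w = y := (tF us L j Y).injective hw1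
  obtain ⟨n, hn, m₀, hm₀⟩ := (hg L hL j).2 w
  have hn0 : n ≠ 0 := fun h1 => by
    rw [h1, Nat.coprime_zero_left] at hn
    exact hp.one_lt.ne' hn
  obtain ⟨m, hm⟩ := (h0 n hn0 ((vC us).obj M) j).2 m₀
  have hm' : ((hh us L j).map g).hom m = w := by
    refine (h0 n hn0 ((vC us).obj W) j).1 ?_
    change (n : ℤ) • ((hh us L j).map g).hom m = (n : ℤ) • w
    rw [← map_zsmul, ← hm₀]
    exact congrArg ((hh us L j).map g).hom hm
  -- the cohomology in low degrees is torsion
  have htor : ∀ l : CM R, IsTest l → ∀ i < a, ∀ x : (tens ((vC us).obj M) l).homology i,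
      ∃ n : ℕ, n ≠ 0 ∧ (n : ℤ) • x = 0 := by
    intro l hl i hi x
    have h1 : ∀ z : (hh us l i).obj T₀, z = 0 := (exactAt_iff_forall _ _).1 (hTa l hl i hi)
    obtain ⟨n₁, hn₁, h2⟩ := (hβ l hl i).1 (((hh us l i).map g).hom x) (h1 _)
    rw [← map_zsmul] at h2
    obtain ⟨n₂, hn₂, h3⟩ := (hg l hl i).1 _ h2
    refine ⟨n₂ * n₁, fun h4 => ?_, ?_⟩
    · have h5 : (n₂ * n₁).Coprime p := Nat.Coprime.mul_left hn₂ hn₁
      rw [h4, Nat.coprime_zero_left] at h5
      exact hp.one_lt.ne' h5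
    · rw [smul_smul, ← Nat.cast_mul] at h3
      exact h3
  have hMb : Bdd ((vC us).obj M) := by
    rw [K353.bdd_iff] at hM ⊢
    obtain ⟨a', b', h⟩ := hM
    exact ⟨a', b', fun i hi => us.map_isZero (h i hi)⟩
  obtain ⟨n', b, hn', hb⟩ := spreadT (A := R) ((vC us).obj M) a hMb hMfg htor
  refine ⟨M, g ≫ α, m, n', b, hM, hMfg, ?_, hn', hb⟩
  rw [(hh us L j).map_comp, ModuleCat.hom_comp, LinearMap.comp_apply, hm', hw]

/-- the torsion form gives the form of `Ctx.overZ0` -/
lemma tq_of_pow {M : CochainComplex C ℤ} {n : ℕ} {b : ℤ}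
    (h : ∀ l : CM R, IsTest l → ∀ i < b, ∀ x : (tens ((vC us).obj M) l).homology i, ∃ k : ℕ, ((n : ℤ) ^ k) • x = 0)
    (q : ℕ) (hq : q.Prime) (hqn : ¬ q ∣ n) : (ctx us).TQ q (b - 1) ((qq C).obj M) := by
  refine Ctx.tq_of_tor (X := ctx us) (S := {m | ∃ k, m = n ^ k}) ?_ (a := b) ?_
  · rintro _ ⟨k, rfl⟩
    exact Nat.Coprime.pow_left k ((Nat.Prime.coprime_iff_not_dvd hq).2 hqn).symm
  · intro l i hi x
    obtain ⟨x, rfl⟩ := (tF us l.1 i M).surjective x
    obtain ⟨k, hk⟩ := h l.1 l.2 i hi x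
    refine ⟨n ^ k, ⟨k, rfl⟩, ?_⟩
    have h1 : (n ^ k) • x = 0 := by
      rw [← natCast_zsmul, Nat.cast_pow]
      exact hk
    have h2 : (n ^ k) • tF us l.1 i M x = 0 := by
      rw [← map_nsmul, h1, map_zero]
    exact h2

variable [HasColimitsOfShape ℕ C] [PreservesColimitsOfShape ℕ us] [us.Faithful] [us.ReflectsIsomorphisms]

/-- **OverZ at a point of characteristic `0`** -/
theorem stmtOverZ0 [IsNoetherianRing R] [PreservesFiniteLimits us] : StmtOverZ0 us := by
  intro L j p hp hL h0 hq hfg hF _ Y hY y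
  refine hit_of_abs us (Ctx.overZ0 (X := ctx us) (fun q hq => hasL us (adm_Sq hq)) (fun q hq' => hq_abs us (hq q hq')) _ ?_)
  obtain ⟨Y', ℓ, hY', hS, hG⟩ := exists_loc us (adm_Sq hp) hY
  obtain ⟨M, f, m, n, b, hM, -, hm, hn, ht⟩ := exists_hM us hF hL h0 hp hfg ℓ hY hY' ((qloc_iff p Y').2 hS)
    (fun l hl i => by
      obtain ⟨h1, h2⟩ := hG (hh us l i)
      constructor
      · intro x hx
        obtain ⟨n, hn, h3⟩ := h1 x hx
        exact ⟨n, hn, by rw [natCast_zsmul]; exact h3⟩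
      · intro y
        obtain ⟨n, hn, x, h3⟩ := h2 y
        exact ⟨n, hn, x, by rw [natCast_zsmul]; exact h3⟩) y
  refine ⟨(qq C).obj M, (qq C).map f, tF us L j M m, n, b - 1, hn, hM, ?_, fun q hq hqn => tq_of_pow us ht q hq hqn⟩
  rw [tF_map, hm]

end Groth.Agent.ResProp.EF.K417
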