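import Groth.Agent.ResProp.EF.K294.Flat
import Groth.Agent.ResProp.EF.K417.FlatSpread
import Groth.Agent.PerfB.FinFreeRes
import Mathlib.Algebra.Homology.Embedding.CochainComplex
import Mathlib.Data.Int.Interval

/-!
# A lower Tor bound of `S⁻¹T` spreads out (SP1)

`A` noetherian, `T` a complex of `A`-modules with finitely generated cohomology, exact outside `[a, b]`; if `S⁻¹T` has
Tor-amplitude `≥ m`, then so has `T_t` for all multiples `t` of some `s ∈ S` (theorem `spread`).
-/

set_option autoImplicit false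

universe u

open CategoryTheory CategoryTheory.Limits MonoidalCategory HomologicalComplex TensorProduct CochainComplex

namespace Groth.Agent.ResProp.EF.K417

open Groth.Agent.ResProp.EF.K294 Groth.Agent.PerfB.RingKFlat

variable {A : Type u} [CommRing A]

/-- localization, as an endofunctor of `ModuleCat A`. -/
noncomputable abbrev loc (S : Submonoid A) : ModuleCat.{u} A ⥤ ModuleCat.{u} A :=
  tensorLeft (ModuleCat.of A (Localization S))

/-- localization of complexes -/
noncomputable abbrev locC (S : Submonoid A) : CM A ⥤ CM A := (loc S).mapHomologicalComplex (ComplexShape.up ℤ)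

instance (S : Submonoid A) : (loc S).PreservesHomology :=
  preservesHomology_tensorLeft _ (inferInstanceAs (Module.Flat A (Localization S)))

lemma exactAt_map (F : ModuleCat.{u} A ⥤ ModuleCat.{u} A) [F.Additive] [F.PreservesHomology] {K : CM A} {i : ℤ}
    (h : K.ExactAt i) : ((F.mapHomologicalComplex (ComplexShape.up ℤ)).obj K).ExactAt i := by
  exact h.map F

/-- homology commutes with an exact functor -/
noncomputable def homologyIso (F : ModuleCat.{u} A ⥤ ModuleCat.{u} A) [F.Additive] [F.PreservesHomology] (K : CM A) (i : ℤ) :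
    ((F.mapHomologicalComplex (ComplexShape.up ℤ)).obj K).homology i ≅ F.obj (K.homology i) :=
  (K.sc i).mapHomologyIso F

lemma locC_exactAt_iff (S : Submonoid A) (K : CM A) (i : ℤ) :
    ((locC S).obj K).ExactAt i ↔ Subsingleton (Localization S ⊗[A] K.homology i) := by
  rw [exactAt_iff_isZero_homology, (homologyIso (loc S) K i).isZero_iff, ModuleCat.isZero_iff_subsingleton]
  rfl

lemma flat_locC_iff (S : Submonoid A) (K : CM A) (i : ℤ) :
    Module.Flat A (((locC S).obj K).homology i) ↔ Module.Flat A (Localization S ⊗[A] K.homology i) := by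
  constructor
  · intro h
    exact Module.Flat.of_linearEquiv (homologyIso (loc S) K i).symm.toLinearEquiv
  · intro h
    exact @Module.Flat.of_linearEquiv _ _ _ _ _ _ _ _ h (homologyIso (loc S) K i).toLinearEquiv

lemma torGE_single_zero (M : ModuleCat.{u} A) (hM : Module.Flat A M) :
    TorGE 0 ((single (ModuleCat.{u} A) (ComplexShape.up ℤ) 0).obj M) := by
  intro L hL i hi
  have := preservesHomology_tensorLeft M hM
  exact (exactAt_map (tensorLeft M) (hL.exact i hi)).of_iso
    (Groth.Agent.Dcoh.TensSingle.singleLeftIsoApp (TR A) M L)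

lemma torGE_single (M : ModuleCat.{u} A) (hM : Module.Flat A M) (m : ℤ) :
    TorGE m ((single (ModuleCat.{u} A) (ComplexShape.up ℤ) m).obj M) := by
  have h := torGE_single_zero M hM
  have e : ((single (ModuleCat.{u} A) (ComplexShape.up ℤ) m).obj M)⟦m⟧ ≅
      (single (ModuleCat.{u} A) (ComplexShape.up ℤ) 0).obj M :=
    ((CochainComplex.singleFunctors (ModuleCat.{u} A)).shiftIso m 0 m (by omega)).app M
  have h1 := h.of_iso e.symm
  rw [torGE_shift_iff] at h1
  simpa using h1

/-- a complex with cohomology only in degree `m`, flat there, has Tor-amplitude `≥ m`. -/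
lemma torGE_of_flat {K : CM A} {m : ℤ} (h : ∀ i, i ≠ m → K.ExactAt i) (hf : Module.Flat A (K.homology m)) :
    TorGE m K := by
  have h1 : K.IsLE m := (CochainComplex.isLE_iff K m).2 fun i hi => h i (by omega)
  have h2 : (K.truncLE m).IsGE m := by
    refine (CochainComplex.isGE_iff _ m).2 fun i hi => ?_
    exact (exactAt_iff_of_quasiIsoAt (K.ιTruncLE m) i).2 (h i (by omega))
  obtain ⟨M, ⟨e⟩⟩ := CochainComplex.exists_iso_single ((K.truncLE m).truncGE m) m
  have e1 : ((single (ModuleCat.{u} A) (ComplexShape.up ℤ) m).obj M).homology m ≅ K.homology m :=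
    (homologyMapIso e m).symm ≪≫ (isoOfQuasiIsoAt ((K.truncLE m).πTruncGE m) m).symm ≪≫
      isoOfQuasiIsoAt (K.ιTruncLE m) m
  have hM : Module.Flat A M := by
    refine Module.Flat.of_linearEquiv ((singleObjHomologySelfIso (ComplexShape.up ℤ) m M).symm ≪≫ e1).toLinearEquiv
  rw [← torGE_iff_of_quasiIso (K.ιTruncLE m), torGE_iff_of_quasiIso ((K.truncLE m).πTruncGE m)]
  exact (torGE_single M hM m).of_iso e.symm

/-- the top cohomology of a complex of Tor-amplitude `≥ m` without cohomology in degrees `> m` is flat. -/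
theorem flatTop {K : CM A} {m : ℤ} (h : TorGE m K) (h' : ∀ i, m < i → K.ExactAt i) : Module.Flat A (K.homology m) := by
  have h1 : TorGE 0 (K⟦m⟧) := (torGE_shift_iff K m).2 (by simpa using h)
  have h2 : Module.Flat A ((K⟦m⟧).homology 0) := h1.flat fun i hi => (exactAt_shift_iff K m i).2 (h' _ (by omega))
  let e : (K⟦m⟧).homology 0 ≅ K.homology m :=
    ((homologyFunctor (ModuleCat.{u} A) (ComplexShape.up ℤ) 0).shiftIso m 0 m (by omega)).app K
  exact @Module.Flat.of_linearEquiv _ _ _ _ _ _ _ _ h2 e.symm.toLinearEquiv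

section cover

variable [IsNoetherianRing A] (T : CM A) (b : ℤ)

/-- killing the top cohomology by a finite free module: `T → C → G[-b][1]`. -/
theorem exists_cone (hf : ∀ i, Module.Finite A (T.homology i)) (hb : ∀ i, b < i → T.ExactAt i) :
    ∃ (S : ShortComplex (CM A)), S.ShortExact ∧ S.X₁ = T ∧ (∀ i, b ≤ i → S.X₂.ExactAt i) ∧
      (∀ i, Module.Finite A (S.X₂.homology i)) ∧ (∀ i, i < b - 1 → T.ExactAt i → S.X₂.ExactAt i) ∧
      (∀ i, i ≠ b - 1 → S.X₃.ExactAt i) ∧ Module.Flat A (S.X₃.homology (b - 1)) := by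
  obtain ⟨X, hX, z, hz⟩ := Groth.Agent.PerfB.FinFreeRes.exists_cover T b (hf b)
  let φ : (single (ModuleCat.{u} A) (ComplexShape.up ℤ) b).obj X ⟶ T :=
    mkHomFromSingle (z ≫ T.iCycles b) (fun k _ => by simp)
  have hφ : Epi (homologyMap φ b) := by
    let x : X ⟶ ((single (ModuleCat.{u} A) (ComplexShape.up ℤ) b).obj X).cycles b :=
      liftCycles _ (singleObjXSelf (ComplexShape.up ℤ) b X).inv (b + 1) (by simp) (by simp)
    have h1 : x ≫ cyclesMap φ b = z := by
      rw [← cancel_mono (T.iCycles b), Category.assoc, cyclesMap_i, liftCycles_i_assoc, mkHomFromSingle_f]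
      simp
    have h2 : x ≫ ((single (ModuleCat.{u} A) (ComplexShape.up ℤ) b).obj X).homologyπ b ≫ homologyMap φ b =
        z ≫ T.homologyπ b := by
      rw [homologyπ_naturality, ← Category.assoc, h1]
    have h3 : Epi ((x ≫ ((single (ModuleCat.{u} A) (ComplexShape.up ℤ) b).obj X).homologyπ b) ≫ homologyMap φ b) := by
      rw [Category.assoc, h2]
      exact hz
    exact epi_of_epi (x ≫ ((single (ModuleCat.{u} A) (ComplexShape.up ℤ) b).obj X).homologyπ b) _
  let S := mappingCone.triangleRotateShortComplex φ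
  have hS : S.ShortExact := shortExact_cone φ
  have h30 : ∀ i, i ≠ b - 1 → S.X₃.ExactAt i := by
    intro i hi
    exact (exactAt_shift_iff _ 1 i).2 (ExactAt.of_isZero (isZero_single_obj_X _ _ _ _ (by omega)))
  have e3 : S.X₃.homology (b - 1) ≅ X :=
    ((homologyFunctor (ModuleCat.{u} A) (ComplexShape.up ℤ) 0).shiftIso 1 (b - 1) b (by omega)).app _ ≪≫
      singleObjHomologySelfIso (ComplexShape.up ℤ) b X
  have hXf : Module.Finite A X := hX.1
  have hXfl : Module.Flat A X := by
    have := hX.2
    infer_instance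
  have h3f : ∀ i, Module.Finite A (S.X₃.homology i) := by
    intro i
    by_cases hi : i = b - 1
    · subst hi
      exact Module.Finite.equiv e3.symm.toLinearEquiv
    · have := ModuleCat.isZero_iff_subsingleton.1 (h30 i hi).isZero_homology
      infer_instance
  refine ⟨S, hS, rfl, fun i hi => ?_, fun i => ?_, fun i hi hT => ?_, h30, ?_⟩
  · have h5 : Epi (homologyMap S.f i) := by
      have h6 := hS.homology_exact₂ i
      refine h6.epi_f ?_
      exact (h30 i (by omega)).isZero_homology.eq_of_tgt _ _
    rw [exactAt_iff_isZero_homology]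
    rcases eq_or_lt_of_le hi with rfl | hi'
    · have h7 : homologyMap (mappingCone.inr φ) b = 0 := by
        rw [← cancel_epi (homologyMap φ b), comp_zero, ← homologyMap_comp]
        exact ((homotopyCofiber.inrCompHomotopy φ (fun j => ⟨j - 1, by simp⟩)).homologyMap_eq b).trans
          (homologyMap_zero _ _ _)
      exact @IsZero.of_epi_eq_zero _ _ _ _ _ (homologyMap (mappingCone.inr φ) b) h5 h7
    · exact IsZero.of_epi (homologyMap S.f i) (hb i hi').isZero_homology
  · have h6 := hS.homology_exact₂ i
    rw [ShortComplex.moduleCat_exact_iff_range_eq_ker] at h6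
    have h7 : IsNoetherian A (S.X₁.homology i) := isNoetherian_of_isNoetherianRing_of_finite A (T.homology i)
    have h8 : IsNoetherian A (S.X₃.homology i) := isNoetherian_of_isNoetherianRing_of_finite A _
    have h9 := isNoetherian_of_range_eq_ker _ _ h6
    exact @Module.IsNoetherian.finite _ _ _ _ _ h9
  · exact hS.exactAt_X₂ i hT (h30 i (by omega))
  · exact Module.Flat.of_linearEquiv e3.toLinearEquiv

end cover

section main

lemma shortExact_locC {E : ShortComplex (CM A)} (hE : E.ShortExact) (S : Submonoid A) : (E.map (locC S)).ShortExact := by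
  refine HomologicalComplex.shortExact_of_degreewise_shortExact _ fun n => ?_
  have h1 : (E.map (eval (ModuleCat.{u} A) (ComplexShape.up ℤ) n)).ShortExact := hE.map_of_exact (eval _ _ n)
  have : PreservesFiniteLimits (loc S) := by
    have : Module.Flat A (ModuleCat.of A (Localization S)) := inferInstanceAs (Module.Flat A (Localization S))
    infer_instance
  have : PreservesFiniteColimits (loc S) := inferInstance
  exact h1.map_of_exact (loc S)

variable [IsNoetherianRing A] (S : Submonoid A)

/-- base step -/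
theorem spread_base (T : CM A) (a m : ℤ) (hf : ∀ i, Module.Finite A (T.homology i))
    (ha : ∀ i, i < a → T.ExactAt i) (hb : ∀ i, m < i → T.ExactAt i) (h : TorGE m ((locC S).obj T)) :
    ∃ s ∈ S, ∀ t, s ∣ t → TorGE m ((locC (Submonoid.powers t)).obj T) := by
  have h1 : ∀ i, i < m → ∃ s ∈ S, ∀ t, s ∣ t → Subsingleton (Localization.Away t ⊗[A] T.homology i) := by
    intro i hi
    have := hf i
    exact exists_zero S (T.homology i) ((locC_exactAt_iff S T i).1 (h.exactAt hi))
  have h2 : ∃ s ∈ S, ∀ t, s ∣ t → Module.Flat A (Localization.Away t ⊗[A] T.homology m) := by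
    have := hf m
    refine exists_flat S (T.homology m) ((flat_locC_iff S T m).1 (flatTop h fun i hi => ?_))
    exact exactAt_map (loc S) (hb i hi)
  choose! s hs hst using h1
  obtain ⟨s', hs', hst'⟩ := h2
  refine ⟨s' * ∏ i ∈ Finset.Ico a m, s i, S.mul_mem hs' (S.prod_mem fun i hi => hs i (Finset.mem_Ico.1 hi).2), fun t ht => ?_⟩
  refine torGE_of_flat (fun i hi => ?_) ((flat_locC_iff _ T m).2 (hst' t (dvd_of_mul_right_dvd ht)))
  rcases lt_or_gt_of_ne hi with hi | hi
  · by_cases hia : i < a
    · exact exactAt_map (loc _) (ha i hia)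
    · rw [locC_exactAt_iff]
      exact hst i hi t ((Finset.dvd_prod_of_mem s (Finset.mem_Ico.2 ⟨by omega, hi⟩)).trans (dvd_of_mul_left_dvd ht))
  · exact exactAt_map (loc _) (hb i hi)

/-- **SP1**: a lower Tor bound of `S⁻¹T` spreads out. -/
theorem spread (T : CM A) (a b m : ℤ) (hf : ∀ i, Module.Finite A (T.homology i))
    (ha : ∀ i, i < a → T.ExactAt i) (hb : ∀ i, b < i → T.ExactAt i) (h : TorGE m ((locC S).obj T)) :
    ∃ s ∈ S, ∀ t, s ∣ t → TorGE m ((locC (Submonoid.powers t)).obj T) := by
  obtain ⟨n, hn⟩ : ∃ n : ℕ, b ≤ m + n := ⟨(b - m).toNat, by omega⟩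
  replace hb : ∀ i, m + n < i → T.ExactAt i := fun i hi => hb i (by omega)
  clear hn
  induction n generalizing T a with
  | zero => exact spread_base S T a m hf ha (fun i hi => hb i (by simpa using hi)) h
  | succ n ih =>
    obtain ⟨E, hE, hE1, hE2, hEf, hEa, hE3, hE3f⟩ := exists_cone T (m + (n + 1 : ℕ)) hf hb
    subst hE1
    have h3 : ∀ S' : Submonoid A, TorGE (m + n) ((locC S').obj E.X₃) := by
      intro S'
      have h4 : m + ((n + 1 : ℕ) : ℤ) - 1 = m + n := by push_cast; ring
      rw [h4] at hE3 hE3f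
      refine torGE_of_flat (fun i hi => exactAt_map (loc S') (hE3 i hi)) ((flat_locC_iff S' _ _).2 ?_)
      infer_instance
    have h2 : TorGE m ((locC S).obj E.X₂) :=
      TorGE.ses₂ (shortExact_locC hE S) h ((h3 S).mono (by omega))
    obtain ⟨s, hs, hst⟩ := ih E.X₂ (min a (m + n)) hEf (fun i hi => hEa i (by push_cast; omega) (ha i (by omega))) h2
      (fun i hi => hE2 i (by push_cast; omega))
    exact ⟨s, hs, fun t ht => TorGE.ses₁ (shortExact_locC hE _) (hst t ht) ((h3 _).mono (by omega))⟩

end main

end Groth.Agent.ResProp.EF.K417
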