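import Groth.Agent.ResProp.EF.K353.Defs2
import Groth.Agent.ResProp.EF.K417.Spread
import Groth.Agent.PerfB.BifCompare

/-!
# `K353.SpreadT` for noetherian rings
-/

set_option autoImplicit false

universe u

open CategoryTheory CategoryTheory.Limits MonoidalCategory HomologicalComplex TensorProduct CochainComplex

namespace Groth.Agent.ResProp.EF.K417

open Groth.Agent.ResProp.EF.K294 Groth.Agent.PerfB.RingKFlat Groth.Agent.PerfB

variable {A : Type u} [CommRing A]

section torsion

variable (S : Submonoid A) (M : Type u) [AddCommGroup M] [Module A M]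

lemma subsingleton_of_torsion (h : ∀ x : M, ∃ s ∈ S, s • x = 0) : Subsingleton (Localization S ⊗[A] M) := by
  have h4 : Subsingleton (LocalizedModule S M) := by
    refine ⟨fun x y => ?_⟩
    have hz : ∀ x : LocalizedModule S M, x = 0 := by
      intro x
      induction x using LocalizedModule.induction_on with
      | h m s =>
        rw [← LocalizedModule.zero_mk (1 : S)]
        obtain ⟨t, ht, htm⟩ := h m
        refine LocalizedModule.mk_eq.2 ⟨⟨t, ht⟩, ?_⟩
        simp only [Submonoid.smul_def, smul_zero, one_smul]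
        exact htm
    rw [hz x, hz y]
  exact (LocalizedModule.equivTensorProduct S M).symm.toEquiv.subsingleton

lemma torsion_of_subsingleton (h : Subsingleton (Localization S ⊗[A] M)) (x : M) : ∃ s ∈ S, s • x = 0 := by
  have h1 : Subsingleton (LocalizedModule S M) :=
    (LocalizedModule.equivTensorProduct S M).toEquiv.subsingleton
  obtain ⟨u, hu⟩ := (LocalizedModule.mk_eq (S := S) (m := x) (m' := 0) (s := 1) (s' := 1)).1 (Subsingleton.elim _ _)
  exact ⟨u, u.2, by simpa [Submonoid.smul_def] using hu⟩

end torsion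

/-- localization commutes with the tensor product. -/
noncomputable def locData (S : Submonoid A) : BifCompare.Data (TR A) (TR A) (loc S) (𝟭 _) (loc S) where
  e M N := (α_ (ModuleCat.of A (Localization S)) M N).symm
  nat₁ {M M'} f N := by
    dsimp
    simp
  nat₂ M {N N'} g := by
    dsimp
    simp

noncomputable def locTens (S : Submonoid A) (K L : CM A) : tens ((locC S).obj K) L ≅ (locC S).obj (tens K L) :=
  BifCompare.iso (locData S) K L

lemma torGE_locC_iff (S : Submonoid A) (K : CM A) (a : ℤ) : TorGE a ((locC S).obj K) ↔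
    ∀ L : CM A, IsTest L → ∀ i < a, ∀ x : (tens K L).homology i, ∃ s ∈ S, s • x = 0 := by
  constructor
  · intro h L hL i hi x
    have h1 := (locC_exactAt_iff S _ i).1 ((h L hL i hi).of_iso (locTens S K L))
    exact torsion_of_subsingleton S _ h1 x
  · intro h L hL i hi
    exact ((locC_exactAt_iff S _ i).2 (subsingleton_of_torsion S _ (h L hL i hi))).of_iso (locTens S K L).symm

lemma finite_homology [IsNoetherianRing A] (K : CM A) (i : ℤ) (h : Module.Finite A (K.X i)) :
    Module.Finite A (K.homology i) := by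
  have h1 : IsNoetherian A (K.X i) := isNoetherian_of_isNoetherianRing_of_finite A _
  have h2 : IsNoetherian A (K.cycles i) :=
    isNoetherian_of_injective (K.iCycles i).hom ((ModuleCat.mono_iff_injective _).1 inferInstance)
  exact Module.Finite.of_surjective (K.homologyπ i).hom ((ModuleCat.epi_iff_surjective _).1 inferInstance)

/-- **spreading out, torsion form** -/
theorem spreadT [IsNoetherianRing A] : K353.SpreadT A := by
  intro K a hK hf h
  obtain ⟨a', b', ha', hb'⟩ := hK
  let S : Submonoid A := (nonZeroDivisors ℤ).map (Int.castRingHom A)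
  have h1 : TorGE a ((locC S).obj K) := by
    rw [torGE_locC_iff]
    intro L hL i hi x
    obtain ⟨n, hn, hx⟩ := h L hL i hi x
    refine ⟨((n : ℤ) : A), ⟨(n : ℤ), mem_nonZeroDivisors_of_ne_zero (by exact_mod_cast hn), rfl⟩, ?_⟩
    rw [Int.cast_smul_eq_zsmul]
    exact hx
  obtain ⟨s, ⟨n, hn, hs⟩, hst⟩ := spread S K a' b' a (fun i => finite_homology K i (hf i))
    (fun i hi => ExactAt.of_isZero ((CochainComplex.isStrictlyGE_iff K a').1 ha' i hi))
    (fun i hi => ExactAt.of_isZero ((CochainComplex.isStrictlyLE_iff K b').1 hb' i hi)) h1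
  have hn0 : n ≠ 0 := nonZeroDivisors.ne_zero hn
  refine ⟨n.natAbs, a, Int.natAbs_ne_zero.2 hn0, fun L hL i hi x => ?_⟩
  have h2 : s ∣ ((n.natAbs : ℤ) : A) := by
    rw [← hs]
    exact (Int.castRingHom A).map_dvd (Int.dvd_natAbs.2 dvd_rfl)
  obtain ⟨t, ⟨k, ht⟩, htx⟩ := (torGE_locC_iff _ K a).1 (hst _ h2) L hL i hi x
  refine ⟨k, ?_⟩
  have h3 : ((((n.natAbs : ℤ) ^ k : ℤ)) : A) • x = 0 := by
    rw [Int.cast_pow]
    have h4 : ((n.natAbs : ℤ) : A) ^ k = t := ht
    rw [h4]
    exact htx
  rwa [Int.cast_smul_eq_zsmul] at h3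

end Groth.Agent.ResProp.EF.K417
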