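import Groth.Agent.ResProp.EF.K417.FgSub
import Groth.Agent.ResProp.EF.K417.SpreadT

/-!
# OverZ, step `hM`: algebra (torsion prime to `q`)
-/

set_option autoImplicit false

universe w v u

open CategoryTheory CategoryTheory.Limits HomologicalComplex

namespace Groth.Agent.ResProp.EF.K417

open Groth.Agent.ResProp.EF.K294 Groth.Agent.ResProp.EF.K353

/-- the numbers prime to `q` -/
def cop (q : ℕ) : Submonoid ℕ where
  carrier := {n | n.Coprime q}
  one_mem' := Nat.coprime_one_left q
  mul_mem' h1 h2 := Nat.Coprime.mul_left h1 h2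

variable {R : Type u} [CommRing R]

section alg

variable {M N : Type u} [AddCommGroup M] [Module R M] [AddCommGroup N] [Module R N] (f : M →ₗ[R] N) (S : Submonoid ℕ)

/-- finite generation up to `S`-torsion is inherited along `S`-isomorphisms -/
lemma fg_of_iso_mod (hk : ∀ x, f x = 0 → ∃ n ∈ S, (n : ℤ) • x = 0) (hc : ∀ y, ∃ n ∈ S, ∃ x, f x = (n : ℤ) • y)
    (s : Finset N) (hs : ∀ y : N, ∃ n ∈ S, (n : ℤ) • y ∈ Submodule.span R (s : Set N)) :
    ∃ t : Finset M, ∀ x : M, ∃ n ∈ S, (n : ℤ) • x ∈ Submodule.span R (t : Set M) := by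
  classical
  choose n hn x hx using hc
  refine ⟨s.image x, fun z => ?_⟩
  -- a common denominator
  let m : ℕ := ∏ y ∈ s, n y
  have hm : m ∈ S := Submonoid.prod_mem S fun y _ => hn y
  have h1 : ∀ y ∈ s, ∃ c ∈ Submodule.span R ((s.image x : Finset M) : Set M), f c = (m : ℤ) • y := by
    intro y hy
    obtain ⟨k, hk'⟩ := Finset.dvd_prod_of_mem n hy
    refine ⟨(k : ℤ) • x y, ?_, ?_⟩
    · exact zsmul_mem (Submodule.subset_span (by simpa using ⟨y, hy, rfl⟩)) _
    · rw [map_zsmul, hx, smul_smul]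
      congr 1
      change (k : ℤ) * (n y : ℤ) = ((∏ y ∈ s, n y : ℕ) : ℤ)
      rw [hk']
      push_cast
      ring
  have h2 : ∀ y ∈ Submodule.span R (s : Set N), ∃ c ∈ Submodule.span R ((s.image x : Finset M) : Set M),
      f c = (m : ℤ) • y := by
    intro y hy
    induction hy using Submodule.span_induction with
    | mem y hy => exact h1 y hy
    | zero => exact ⟨0, zero_mem _, by rw [map_zero, smul_zero]⟩
    | add y y' _ _ h h' =>
      obtain ⟨c, hc, e⟩ := h
      obtain ⟨c', hc', e'⟩ := h'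
      exact ⟨c + c', add_mem hc hc', by rw [map_add, e, e', smul_add]⟩
    | smul r y _ h =>
      obtain ⟨c, hc, e⟩ := h
      exact ⟨r • c, Submodule.smul_mem _ r hc, by rw [map_smul, e, smul_comm]⟩
  obtain ⟨a, ha, haz⟩ := hs (f z)
  obtain ⟨c, hc, e⟩ := h2 _ haz
  obtain ⟨b, hb, hbz⟩ := hk (((m * a : ℕ) : ℤ) • z - c) (by
    rw [map_sub, map_zsmul, e, smul_smul, Nat.cast_mul, sub_self])
  refine ⟨b * (m * a), S.mul_mem hb (S.mul_mem hm ha), ?_⟩
  rw [smul_sub, sub_eq_zero, smul_smul, ← Nat.cast_mul] at hbz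
  rw [hbz]
  exact zsmul_mem hc _

end alg

/-- `FgCoh` is inherited along isomorphisms up to torsion prime to `q` -/
lemma fgCoh_of_iso_mod {K K' : CM R} (f : K ⟶ K') {q : ℕ}
    (hk : ∀ (i : ℤ) (x : K.homology i), (homologyMap f i).hom x = 0 → ∃ n ∈ cop q, (n : ℤ) • x = 0)
    (hc : ∀ (i : ℤ) (y : K'.homology i), ∃ n ∈ cop q, ∃ x, (homologyMap f i).hom x = (n : ℤ) • y)
    (h : FgCoh q K') : FgCoh q K := by
  intro i
  obtain ⟨s, hs⟩ := h i
  exact fg_of_iso_mod (homologyMap f i).hom (cop q) (hk i) (hc i) s hs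

section cyc

variable (K : CM R)

lemma exists_cyc (i : ℤ) (y : K.homology i) : ∃ z : K.cycles i, (K.homologyπ i).hom z = y :=
  (ModuleCat.epi_iff_surjective (K.homologyπ i)).1 inferInstance y

lemma d_iCyc (i j : ℤ) (z : K.cycles i) : (K.d i j).hom ((K.iCycles i).hom z) = 0 := by
  have h := congrArg (fun a => a.hom z) (K.iCycles_d i j)
  exact h

lemma exists_iCyc {i j : ℤ} (hij : i + 1 = j) (x : K.X i) (hx : (K.d i j).hom x = 0) :
    ∃ z : K.cycles i, (K.iCycles i).hom z = x := by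
  let a : ModuleCat.of R R ⟶ K.X i := ModuleCat.ofHom (LinearMap.toSpanSingleton R _ x)
  have ha : a ≫ K.d i j = 0 := by
    apply ModuleCat.hom_ext
    apply LinearMap.ext_ring
    simpa [a] using hx
  refine ⟨(K.liftCycles a j (by simp [hij]) ha).hom (1 : R), ?_⟩
  have := congrArg (fun t => t.hom (1 : R)) (K.liftCycles_i a j (by simp [hij]) ha)
  exact this.trans (one_smul R x)

lemma exists_toCyc (i : ℤ) (z : K.cycles i) (hz : (K.homologyπ i).hom z = 0) :
    ∃ w : K.X (i - 1), (K.toCycles (i - 1) i).hom w = z := by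
  have h1 : (ShortComplex.mk (K.toCycles (i - 1) i) (K.homologyπ i) (by simp)).Exact := by
    have := K.homologyIsCokernel (i - 1) i (by simp)
    exact ShortComplex.exact_of_g_is_cokernel _ this
  exact (ShortComplex.moduleCat_exact_iff _).1 h1 z hz

end cyc

section us

variable {C : Type v} [Category.{w} C] [Abelian C] (us : C ⥤ ModuleCat.{u} R) [us.Additive]

/-- from the cohomology to the terms -/
lemma fgS_of_fgCoh {q : ℕ} (K : CochainComplex C ℤ) (h : FgCoh q ((vC us).obj K)) (i j : ℤ) (hij : i + 1 = j) :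
    FgS us (cop q) K i j := by
  classical
  obtain ⟨s, hs⟩ := h i
  choose z hz using exists_cyc ((vC us).obj K) i
  let V := (vC us).obj K
  let g : V.homology i → V.X i := fun y => (V.iCycles i).hom (z y)
  refine ⟨s.image g, ?_, ?_⟩
  · intro x hx
    obtain ⟨y, -, rfl⟩ := Finset.mem_image.1 hx
    exact d_iCyc V i j (z y)
  · intro x hx
    obtain ⟨zx, rfl⟩ := exists_iCyc V hij x hx
    obtain ⟨n, hn, hnx⟩ := hs ((V.homologyπ i).hom zx)
    -- lift the combination to cycles
    have h2 : ∀ y ∈ Submodule.span R (s : Set (V.homology i)), ∃ c : V.cycles i, (V.homologyπ i).hom c = y ∧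
        (V.iCycles i).hom c ∈ Submodule.span R ((s.image g : Finset (V.X i)) : Set (V.X i)) := by
      intro y hy
      induction hy using Submodule.span_induction with
      | mem y hy => exact ⟨z y, hz y, Submodule.subset_span (by simpa using ⟨y, hy, rfl⟩)⟩
      | zero => exact ⟨0, map_zero _, by rw [map_zero]; exact zero_mem _⟩
      | add y y' _ _ h h' =>
        obtain ⟨c, hc, e⟩ := h
        obtain ⟨c', hc', e'⟩ := h'
        exact ⟨c + c', by rw [map_add, hc, hc'], by rw [map_add]; exact add_mem e e'⟩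
      | smul r y _ h =>
        obtain ⟨c, hc, e⟩ := h
        exact ⟨r • c, by rw [map_smul, hc], by rw [map_smul]; exact Submodule.smul_mem _ r e⟩
    obtain ⟨c, hc, hc'⟩ := h2 _ hnx
    obtain ⟨w, hw⟩ := exists_toCyc V i ((n : ℤ) • zx - c) (by
      rw [map_sub, map_zsmul, hc, sub_self])
    refine ⟨n, hn, (V.iCycles i).hom c, hc', w, ?_⟩
    have h3 : (V.iCycles i).hom ((V.toCycles (i - 1) i).hom w) = (V.d (i - 1) i).hom w := by
      have := congrArg (fun t => t.hom w) (V.toCycles_i (i - 1) i)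
      exact this
    change (n : ℤ) • (V.iCycles i).hom zx = (V.iCycles i).hom c + (V.d (i - 1) i).hom w
    rw [← h3, hw, map_sub, map_zsmul]
    abel

end us

/-- tensoring with a test complex preserves complexes with torsion cohomology -/
lemma tor_tens (S : Submonoid ℕ) (K : CM R) (hK : ∀ (i : ℤ) (x : K.homology i), ∃ n ∈ S, (n : ℤ) • x = 0) (l : CM R)
    (hl : IsTest l) (i : ℤ) (x : (tens K l).homology i) : ∃ n ∈ S, (n : ℤ) • x = 0 := by
  let S' : Submonoid R := S.map (Nat.castRingHom R)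
  have h1 : ((locC S').obj K).Acyclic := fun i => (locC_exactAt_iff S' K i).2 (subsingleton_of_torsion S' _ (by
    intro x
    obtain ⟨n, hn, h0⟩ := hK i x
    refine ⟨(n : R), ⟨n, hn, rfl⟩, ?_⟩
    rwa [Nat.cast_smul_eq_nsmul, ← natCast_zsmul]))
  obtain ⟨s, ⟨n, hn, hs⟩, h0⟩ := (torGE_locC_iff S' K (i + 1)).1 (TorGE.of_acyclic h1) l hl i (by omega) x
  refine ⟨n, hn, ?_⟩
  rw [← hs] at h0
  rwa [natCast_zsmul, ← Nat.cast_smul_eq_nsmul R]

end Groth.Agent.ResProp.EF.K417
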